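import Groth.Prelude.Def_AlphaP
import Groth.Prelude.Def_ConstGrp
import Groth.Agent.UnipHopfLib.Socle
import Mathlib.Algebra.Field.ZMod

/-!
Groups with a primitive coordinate are unipotent.
-/

set_option autoImplicit false

noncomputable section

universe u

open scoped TensorProduct
open HopfRep

namespace Groth.Agent.CentreUnip

variable {k : Type u} [Field k]

/-- A bialgebra generated by a primitive element is exhausted by its socles. -/
theorem exhaustive_of_primitive {A : Type u} [CommRing A] [Bialgebra k A] (x : A)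
    (hx : CoalgebraStruct.comul (R := k) x = x ⊗ₜ[k] 1 + 1 ⊗ₜ[k] x) (hgen : Algebra.adjoin k {x} = ⊤) :
    ∀ a : A, ∃ n, a ∈ UnipHopf.K k A n := by
  have hpow : ∀ i : ℕ, x ^ i ∈ UnipHopf.K k A (i + 1) := by
    intro i
    induction i using Nat.strong_induction_on with
    | _ i ih =>
      refine UnipHopf.mem_soc_succ_of_coact_sub ?_
      show CoalgebraStruct.comul (R := k) (x ^ i) - (x ^ i) ⊗ₜ[k] (1 : A) ∈ _
      rw [Bialgebra.comul_pow, hx, add_pow, Finset.sum_range_succ]
      simp only [Algebra.TensorProduct.tmul_pow, one_pow, Nat.choose_self, Nat.cast_one, mul_one,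
        tsub_self, pow_zero, Algebra.TensorProduct.tmul_mul_tmul, add_sub_cancel_right]
      refine Submodule.sum_mem _ fun m hm => ?_
      rw [Finset.mem_range] at hm
      rw [one_mul, ← nsmul_eq_mul']
      refine nsmul_mem ?_ _
      exact ⟨⟨x ^ m, UnipHopf.soc_mono hm (ih m hm)⟩ ⊗ₜ[k] (x ^ (i - m)), by simp⟩
  intro a
  have ha : a ∈ Algebra.adjoin k {x} := hgen ▸ Algebra.mem_top
  rw [Algebra.adjoin_singleton_eq_range_aeval] at ha
  obtain ⟨P, rfl⟩ := ha
  refine ⟨P.natDegree + 1, ?_⟩
  show Polynomial.aeval x P ∈ _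
  rw [Polynomial.aeval_eq_sum_range]
  exact Submodule.sum_mem _ fun i hi => Submodule.smul_mem _ _
    (UnipHopf.soc_mono (Finset.mem_range.1 hi) (hpow i))

theorem adjoin_x (p : ℕ) : Algebra.adjoin k {AlphaP.x p k} = ⊤ := by
  refine top_le_iff.1 fun a _ => ?_
  obtain ⟨P, rfl⟩ := AlphaP.mk_surjective p k a
  rw [Algebra.adjoin_singleton_eq_range_aeval]
  exact ⟨P, AlphaP.aeval_x p k P⟩

/-- The group `α_p` is unipotent. -/
theorem isUnipotent_alphaP (p : ℕ) [Fact p.Prime] [CharP k p] : HopfRep.IsUnipotent k (AlphaP.A p k) := by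
  refine UnipHopf.isUnipotent_of_exhaustive (exhaustive_of_primitive (AlphaP.x p k) ?_ (adjoin_x p))
  show Bialgebra.comulAlgHom k (AlphaP.A p k) (AlphaP.x p k) = _
  rw [AlphaP.comulAlgHom_eq]
  simp [AlphaP.comulAlg]

variable (k) in
/-- The coordinate of the constant group `ℤ/p`. -/
def coord (p : ℕ) [CharP k p] : ConstGrp.F k (Multiplicative (ZMod p)) :=
  fun m => (Multiplicative.toAdd m).cast

theorem coord_injective (p : ℕ) [Fact p.Prime] [CharP k p] : Function.Injective (coord k p) := fun a b h =>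
  Multiplicative.toAdd.injective ((ZMod.castHom (dvd_refl p) k).injective h)

theorem adjoin_coord (p : ℕ) [Fact p.Prime] [CharP k p] : Algebra.adjoin k {coord k p} = ⊤ := by
  classical
  refine top_le_iff.1 fun f _ => ?_
  rw [ConstGrp.eq_sum_smul_e f]
  refine Subalgebra.sum_mem _ fun g _ => Subalgebra.smul_mem _ ?_ _
  let c := coord k p
  have he : ConstGrp.e k g = ∏ h ∈ Finset.univ.erase g,
      ((c g - c h)⁻¹ • (c - algebraMap k (ConstGrp.F k (Multiplicative (ZMod p))) (c h))) := by
    refine ConstGrp.ext fun a => ?_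
    have hev : ∀ (s : Finset (Multiplicative (ZMod p))) (F : _ → ConstGrp.F k (Multiplicative (ZMod p))),
        (∏ h ∈ s, F h) a = ∏ h ∈ s, F h a := fun s F => map_prod (ConstGrp.ev k a) F s
    rw [hev, ConstGrp.e_apply]
    split_ifs with hag
    · subst hag
      symm
      refine Finset.prod_eq_one fun h hh => ?_
      rw [ConstGrp.smul_apply, ConstGrp.sub_apply, ConstGrp.algebraMap_apply]
      exact inv_mul_cancel₀ (sub_ne_zero.2 fun e => (Finset.mem_erase.1 hh).1 (coord_injective p e).symm)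
    · symm
      refine Finset.prod_eq_zero (Finset.mem_erase.2 ⟨hag, Finset.mem_univ a⟩) ?_
      rw [ConstGrp.smul_apply, ConstGrp.sub_apply, ConstGrp.algebraMap_apply, sub_self, mul_zero]
  rw [he]
  exact Subalgebra.prod_mem _ fun h _ => Subalgebra.smul_mem _
    (Subalgebra.sub_mem _ (Algebra.self_mem_adjoin_singleton k _) (Subalgebra.algebraMap_mem _ _)) _

/-- The constant group `ℤ/p` is unipotent in characteristic `p`. -/
theorem isUnipotent_zmod (p : ℕ) [Fact p.Prime] [CharP k p] :
    HopfRep.IsUnipotent k (ConstGrp.F k (Multiplicative (ZMod p))) := by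
  classical
  refine UnipHopf.isUnipotent_of_exhaustive (exhaustive_of_primitive (coord k p) ?_ (adjoin_coord p))
  let c := coord k p
  have hc : ∀ a b, c (a * b) = c a + c b := fun a b => map_add (ZMod.castHom (dvd_refl p) k) _ _
  show ConstGrp.comulLin k _ c = _
  conv_lhs => rw [ConstGrp.eq_sum_smul_e c, map_sum]
  simp only [map_smul, ConstGrp.comulLin_e, Finset.smul_sum]
  rw [Finset.sum_comm]
  have h1 : ∀ a, ∑ g, c g • (ConstGrp.e k a ⊗ₜ[k] ConstGrp.e k (a⁻¹ * g)) =
      (c a • ConstGrp.e k a) ⊗ₜ[k] (1 : ConstGrp.F k (Multiplicative (ZMod p))) + ConstGrp.e k a ⊗ₜ[k] c := by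
    intro a
    rw [← Equiv.sum_comp (Equiv.mulLeft a)]
    simp only [Equiv.coe_mulLeft, inv_mul_cancel_left, hc, add_smul, Finset.sum_add_distrib,
      ← TensorProduct.smul_tmul', ← TensorProduct.tmul_smul, ← Finset.smul_sum, ← TensorProduct.tmul_sum,
      ConstGrp.sum_e, ← ConstGrp.eq_sum_smul_e]
  rw [Finset.sum_congr rfl fun a _ => h1 a, Finset.sum_add_distrib, ← TensorProduct.sum_tmul,
    ← TensorProduct.sum_tmul, ← ConstGrp.eq_sum_smul_e, ConstGrp.sum_e]

end Groth.Agent.CentreUnip
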