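import Groth.Agent.CentreUnipLib.Basic
import Groth.Agent.MultExtLib.Field
import Groth.Agent.CentreRedLib.Points
import Groth.Agent.BorelLib.RedUnip
import Groth.Agent.BorelLib.MultClosed
import Groth.Agent.DescHomLib.MultBC
import Groth.Agent.S5423
import Groth.Agent.S5510
import Groth.Agent.S7951

/-!
The centre of a reductive group meets unipotent groups trivially.
-/

set_option autoImplicit false
set_option backward.isDefEq.respectTransparency false
set_option maxHeartbeats 1000000
set_option synthInstance.maxHeartbeats 400000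

universe u

open CategoryTheory CategoryTheory.Limits MonoidalCategory CartesianMonoidalCategory AlgebraicGeometry CoactBr WithConv
open scoped MonObj TensorProduct

noncomputable section

attribute [-instance] CategoryTheory.Hom.commGroup

namespace Groth.Agent.CentreUnip

variable {k : Type u} [Field k]

/-- Homomorphisms from a group of multiplicative type to a unipotent one are trivial. -/
theorem eq_one_of_multType {A : Type u} [CommRing A] [HopfAlgebra k A] [Algebra.FiniteType k A]
    (hA : HopfRep.IsUnipotent k A) {H : Over (Spec (CommRingCat.of k))} [GrpObj H] (hH : SGA3x.IsMultTypeFT H)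
    (u : H ⟶ sp k A) [IsMonHom u] : u = 1 := by
  let S := Spec (CommRingCat.of k)
  let e : ∀ X : Over S, (Over.map (𝟙 S)).obj X ⟶ X := fun X => (Over.mapId S).hom.app X
  haveI : IsIso (e H) := inferInstanceAs (IsIso ((Over.mapId S).hom.app H))
  have h := CentreRed.eq_one_of_unipotent hA (𝟙 S) H hH (e H ≫ u) fun X h h' => by
    have hn : ∀ a : X ⟶ H, (Over.map (𝟙 S)).map a ≫ e H = e X ≫ a := fun a => (Over.mapId S).hom.naturality a
    rw [reassoc_of% hn (h * h'), reassoc_of% hn h, reassoc_of% hn h', MonObj.mul_comp, MonObj.comp_mul]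
  rw [← cancel_epi (e H), h, MonObj.comp_one]

/-- A morphism trivial after a faithfully flat base change is trivial. -/
theorem eq_one_of_bc {S S' : Scheme.{u}} (t : S' ⟶ S) [Flat t] [Surjective t] [QuasiCompact t] {X Y : Over S}
    [GrpObj Y] (f : X ⟶ Y) (h : (Over.pullback t).map f = (1 : Red.bc t X ⟶ Red.bc t Y)) : f = 1 := by
  have h1 : (Over.pullback t).map f = (Over.pullback t).map (1 : X ⟶ Y) :=
    h.trans (Functor.map_one _).symm
  refine Over.OverMorphism.ext ?_
  haveI : Epi (pullback.fst X.hom t) := Flat.epi_of_flat_of_surjective _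
  rw [← cancel_epi (pullback.fst X.hom t)]
  have h2 := congrArg (fun g => g.left ≫ pullback.fst Y.hom t) h1
  simp only [Over.pullback_map_left, pullback.lift_fst] at h2
  exact h2

/-- Smooth connected groups without subtorus are unipotent. -/
theorem exists_isUnipotent [IsAlgClosed k] (U : Over (Spec (CommRingCat.of k))) [GrpObj U] [IsAffine U.left]
    [Smooth U.hom] [ConnectedSpace U.left] (hno : Red.HasNoSubtorus k U) :
    ∃ (A : Type u) (_ : CommRing A) (_ : HopfAlgebra k A) (v : sp k A ≅ U),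
      IsMonHom v.hom ∧ Algebra.FiniteType k A ∧ HopfRep.IsUnipotent k A := by
  obtain ⟨A, _, _, v, hv, hA, hAr⟩ := BorelLib.exists_setup U
  haveI := hv; haveI := hA; haveI := hAr
  refine ⟨A, inferInstance, inferInstance, v, hv, hA, (Groth.Agent.S5423.result k A).2 fun g V _ _ _ hV => ?_⟩
  haveI := hV
  let r : BorelLib.RegRep (⊤ : Subgroup (BorelLib.Pt k A)) V :=
    { ρ := fun g => LieKolchinLib.rep V g
      map_one := map_one _
      map_mul := fun g _ h _ => map_mul _ g h
      reg := fun φ v => ⟨ComodLib.coeff (A := A) φ v, fun g => LieKolchinLib.apply_rep φ g v⟩ }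
  have hu : BorelLib.IsUni (toConv g : BorelLib.Pt k A) := BorelLib.uni_of_hasNoSubtorus v (𝟙 U) hno _ (by
    rw [BorelLib.mem_ptsSub]
    exact ⟨_, Category.comp_id _⟩)
  exact hu V r

/-- The centre of a reductive group is of multiplicative type. -/
theorem centre_multType {G Z : Over (Spec (CommRingCat.of k))} [GrpObj G] [GrpObj Z] (hG : Red.IsReductive G)
    {z : Z ⟶ G} (hz : Red.IsCentre z) :
    ∃ (Z' : Over (Spec (CommRingCat.of k))) (_ : GrpObj Z') (z' : Z' ⟶ G) (e : Z ≅ Z'), IsMonHom z' ∧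
      IsMonHom e.hom ∧ IsClosedImmersion z'.left ∧ SGA3x.IsMultTypeFT Z' ∧ e.hom ≫ z' = z := by
  obtain ⟨Z', _, z', hz', hcl, hM⟩ := Groth.Agent.S5510.result G hG
  obtain ⟨hzm, hzo, hzu⟩ := hz
  obtain ⟨hzm', hzo', hzu'⟩ := hz'
  haveI := hzm; haveI := hzo; haveI := hzm'; haveI := hzo'
  obtain ⟨a, ha⟩ := (hzu' Z z).2 ((hzu Z z).1 ⟨𝟙 Z, Category.id_comp z⟩)
  obtain ⟨b, hb⟩ := (hzu Z' z').2 ((hzu' Z' z').1 ⟨𝟙 Z', Category.id_comp z'⟩)
  let e : Z ≅ Z' := ⟨a, b, (cancel_mono z).1 (by rw [Category.assoc, hb, ha, Category.id_comp]),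
    (cancel_mono z').1 (by rw [Category.assoc, ha, hb, Category.id_comp])⟩
  haveI : IsMonHom (a ≫ z') := by rw [ha]; infer_instance
  exact ⟨Z', inferInstance, z', e, hzm', DiagRep.isMonHom_of_comp_mono a z', hcl, hM, ha⟩

/-- A central point of a reductive group lying in a unipotent subgroup is the unit. -/
theorem eq_one_of_centre_unipotent {G Z U : Over (Spec (CommRingCat.of k))} [GrpObj G] [GrpObj Z] [GrpObj U]
    (hG : Red.IsReductive G) {z : Z ⟶ G} (hz : Red.IsCentre z) [IsAffine U.left] [Smooth U.hom] [ConnectedSpace U.left]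
    (hU : ∀ s : ↥(Spec (CommRingCat.of k)),
      Red.HasNoSubtorus (AlgebraicClosure ((Spec (CommRingCat.of k)).residueField s)) (Red.geomFibre s U))
    (u : U ⟶ G) [IsMonHom u] [IsClosedImmersion u.left] {X : Over (Spec (CommRingCat.of k))} (a : X ⟶ Z) (b : X ⟶ U)
    (hab : a ≫ z = b ≫ u) : b ≫ u = 1 := by
  obtain ⟨Z', _, z', e, hz'm, -, hz'c, hM, he⟩ := centre_multType hG hz
  haveI := hz'm; haveI := hz'c
  haveI : Mono z' := DiagRep.mono_of_isClosedImmersion z' hz'c
  let P := pullback u z'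
  let j : P ⟶ U := pullback.fst u z'
  have hsq : IsPullback j (pullback.snd u z') u z' := IsPullback.of_hasPullback u z'
  have hsq' := hsq.map (Over.forget (Spec (CommRingCat.of k)))
  haveI : IsClosedImmersion j.left := MorphismProperty.of_isPullback (P := @IsClosedImmersion) hsq'.flip hz'c
  haveI : Mono j := DiagRep.mono_of_isClosedImmersion j inferInstance
  obtain ⟨iP, hj⟩ := WeilRes.exists_grpObj_of_pred j (fun {X} g => ∃ w, w ≫ z' = g ≫ u)
    (fun {X} g => ⟨by
      rintro ⟨y, rfl⟩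
      exact ⟨y ≫ pullback.snd u z', by rw [Category.assoc, Category.assoc, hsq.w]⟩,
      fun ⟨w, hw⟩ => ⟨hsq.lift g w hw.symm, hsq.lift_fst _ _ _⟩⟩)
    ⟨1, by rw [MonObj.one_comp, MonObj.one_comp]⟩
    (fun g h ⟨w, hw⟩ ⟨w', hw'⟩ => ⟨w * w', by rw [MonObj.mul_comp, MonObj.mul_comp, hw, hw']⟩)
    (fun g ⟨w, hw⟩ => ⟨w⁻¹, by rw [GrpObj.inv_comp, GrpObj.inv_comp, hw]⟩)
  letI := iP; haveI := hj
  haveI : IsMonHom (pullback.snd u z' ≫ z') := by rw [← hsq.w]; infer_instance
  haveI : IsMonHom (pullback.snd u z') := DiagRep.isMonHom_of_comp_mono _ z'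
  haveI : IsClosedImmersion (pullback.snd u z').left :=
    MorphismProperty.of_isPullback (P := @IsClosedImmersion) hsq' ‹IsClosedImmersion u.left›
  have hP : SGA3x.IsMultTypeFT P := BorelLib.isMultTypeFT_of_closed hM (pullback.snd u z')
  let s : ↥(Spec (CommRingCat.of k)) := IsLocalRing.closedPoint k
  obtain ⟨ga, gs, gc⟩ := BorelLib.geom_facts s U
  haveI := ga; haveI := gs; haveI := gc
  obtain ⟨A, _, _, v, hv, hA, hAu⟩ := exists_isUnipotent (Red.geomFibre s U) (hU s)
  haveI := hv; haveI := hA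
  haveI := DiagRep.isMonHom_bc_map (Red.geomPt s) j
  haveI : IsMonHom v.inv := inferInstance
  have h1 := eq_one_of_multType hAu (DescHom.isMultTypeFT_bc hP (Red.geomPt s))
    ((Over.pullback (Red.geomPt s)).map j ≫ v.inv)
  have h2 : (Over.pullback (Red.geomPt s)).map j = (1 : Red.bc (Red.geomPt s) P ⟶ Red.bc (Red.geomPt s) U) := by
    rw [← cancel_mono v.inv, h1, MonObj.one_comp]
  obtain ⟨_, -, ht⟩ := BorelLib.exists_geomPt_algebra s
  haveI : Flat (Red.geomPt s) := by rw [ht]; exact GrpField.flat_field _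
  haveI : Surjective (Red.geomPt s) := BorelLib.surjective_geomPt s
  haveI : QuasiCompact (Red.geomPt s) := by rw [ht]; infer_instance
  have h3 := eq_one_of_bc (Red.geomPt s) j h2
  obtain ⟨w, hw⟩ : ∃ w, w ≫ j = b := ⟨_, hsq.lift_fst b (a ≫ e.hom) (by rw [Category.assoc, he, hab])⟩
  rw [← hw, h3, MonObj.comp_one, MonObj.one_comp]

/-- No subgroup of a reductive centre is a non-trivial unipotent group. -/
theorem not_mono_unipotent {G Z : Over (Spec (CommRingCat.of k))} [GrpObj G] [GrpObj Z] (hG : Red.IsReductive G)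
    {z : Z ⟶ G} (hz : Red.IsCentre z) {A : Type u} [CommRing A] [HopfAlgebra k A] [Algebra.FiniteType k A]
    (hA : HopfRep.IsUnipotent k A) (x : A) (hx0 : x ≠ 0) (hx : Coalgebra.counit (R := k) x = 0)
    (φ : sp k A ⟶ Z) (hφ : IsMonHom φ) : ¬ Mono φ.left := by
  intro hm
  haveI := hφ
  haveI : Mono φ := Over.mono_of_mono_left φ
  obtain ⟨Z', _, z', e, -, he, -, hM, -⟩ := centre_multType hG hz
  haveI := he
  let K := AlgebraicClosure k
  let t : Spec (CommRingCat.of K) ⟶ Spec (CommRingCat.of k) := DiagRep.baseHom k K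
  haveI : Surjective t := TorusField.surjective_baseHom k K
  haveI : Flat t := GrpField.flat_field _
  haveI hbc : IsMonHom (asIso (DiagRep.bcHom k K A)).hom := DiagRep.isMonHom_bcHom k K A
  haveI : IsMonHom (asIso (DiagRep.bcHom k K A)).inv := inferInstance
  haveI := DiagRep.isMonHom_bc_map t (φ ≫ e.hom)
  have h1 := MultExt.eq_one_of_unipotent_isMultTypeFT ((Groth.Agent.S7951.result k K A).1 hA)
    (DescHom.isMultTypeFT_bc hM t) ((asIso (DiagRep.bcHom k K A)).inv ≫ (Over.pullback t).map (φ ≫ e.hom))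
  have h2 : (Over.pullback t).map (φ ≫ e.hom) = (1 : Red.bc t (sp k A) ⟶ Red.bc t Z') := by
    rw [← cancel_epi (asIso (DiagRep.bcHom k K A)).inv, h1, MonObj.comp_one]
  have h3 : φ = 1 := by rw [← cancel_mono e.hom, eq_one_of_bc t _ h2, MonObj.one_comp]
  have h4 : 𝟙 (sp k A) = 1 := (cancel_mono φ).1 (by rw [Category.id_comp, MonObj.one_comp, h3])
  rw [← pt_id, ← DiagRep.pt_one] at h4
  have h5 := DFunLike.congr_fun (pt_injective h4) x
  simp [hx] at h5
  exact hx0 h5

end Groth.Agent.CentreUnip
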